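import Mathlib
import Groth.Agent.DomDVR.KrullAkizuki

/-!
# Units of finite type domains modulo algebraic constants
-/

set_option autoImplicit false

universe u

open scoped nonZeroDivisors WithZero
open IsDedekindDomain

namespace Groth.Agent.UnitsFG

section DegValuation

variable (k : Type u) [Field k] (σ : Type) [Finite σ]

open Classical in
/-- The valuation `exp ∘ totalDegree` on a polynomial ring. -/
noncomputable def degVal : Valuation (MvPolynomial σ k) ℤᵐ⁰ where
  toFun f := if f = 0 then 0 else WithZero.exp (f.totalDegree : ℤ)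
  map_zero' := if_pos rfl
  map_one' := by simp
  map_mul' f g := by
    by_cases hf : f = 0
    · simp [hf]
    by_cases hg : g = 0
    · simp [hg]
    simp [hf, hg, MvPolynomial.totalDegree_mul_of_isDomain hf hg, WithZero.exp_add]
  map_add_le_max' f g := by
    by_cases hf : f = 0
    · simp [hf]
    by_cases hg : g = 0
    · simp [hg]
    by_cases hfg : f + g = 0
    · simp [hfg]
    simp only [if_neg hf, if_neg hg, if_neg hfg, le_max_iff, WithZero.exp_le_exp, Nat.cast_le]
    exact le_max_iff.1 (MvPolynomial.totalDegree_add f g)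

variable {k σ}

lemma degVal_ne_zero {f : MvPolynomial σ k} (hf : f ≠ 0) :
    degVal k σ f = WithZero.exp (f.totalDegree : ℤ) := if_neg hf

lemma degVal_supp_le : (MvPolynomial σ k)⁰ ≤ (degVal k σ).supp.primeCompl := fun f hf h => by
  have : degVal k σ f = 0 := h
  rw [degVal_ne_zero (nonZeroDivisors.ne_zero hf)] at this
  exact WithZero.exp_ne_zero this

variable (k σ)

/-- The degree valuation on the field of rational functions. -/
noncomputable def degValK : Valuation (FractionRing (MvPolynomial σ k)) ℤᵐ⁰ :=
  (degVal k σ).extendToLocalization degVal_supp_le _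

/-- The valuation ring of the degree valuation. -/
noncomputable abbrev degRing : ValuationSubring (FractionRing (MvPolynomial σ k)) :=
  (degValK k σ).valuationSubring

variable {k σ}

lemma exists_C_of_degValK_le_one {f : MvPolynomial σ k}
    (h : degValK k σ (algebraMap _ _ f) ≤ 1) : ∃ c : k, MvPolynomial.C c = f := by
  rw [degValK, Valuation.extendToLocalization_apply_map_apply] at h
  by_cases hf : f = 0
  · exact ⟨0, by simp [hf]⟩
  rw [degVal_ne_zero hf, ← WithZero.exp_zero, WithZero.exp_le_exp] at h
  exact ⟨f.coeff 0, (MvPolynomial.totalDegree_eq_zero_iff_eq_C.1 (by omega)).symm⟩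

instance isPrincipalIdealRing_degRing : IsPrincipalIdealRing (degRing k σ) := by
  constructor
  intro I
  by_cases hI : I = ⊥
  · exact hI ▸ inferInstance
  let v := degValK k σ
  let S : Set ℤ := {n | ∃ x ∈ I, v (x : FractionRing (MvPolynomial σ k)) = WithZero.exp n}
  have hne : ∀ x : degRing k σ, x ≠ 0 → v (x : FractionRing (MvPolynomial σ k)) ≠ 0 := fun x hx =>
    (Valuation.ne_zero_iff _).2 fun h => hx (Subtype.ext h)
  obtain ⟨x, hx, hx0⟩ := Submodule.exists_mem_ne_zero_of_ne_bot hI
  obtain ⟨n, ⟨y, hy, hyn⟩, hmax⟩ := Int.exists_greatest_of_bdd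
    (P := fun n => n ∈ S) ⟨0, fun n ⟨z, _, hz⟩ => by
      have := (Valuation.mem_valuationSubring_iff _ _).1 z.2
      rw [hz, ← WithZero.exp_zero, WithZero.exp_le_exp] at this
      exact this⟩
    ⟨WithZero.log (v x), x, hx, (WithZero.exp_log (hne x hx0)).symm⟩
  refine ⟨y, le_antisymm (fun z hz => ?_) ((Submodule.span_singleton_le_iff_mem _ _).2 hy)⟩
  by_cases hz0 : z = 0
  · simp [hz0]
  have hy0 : (y : FractionRing (MvPolynomial σ k)) ≠ 0 := fun h => WithZero.exp_ne_zero (a := n) (by rw [← hyn, h, map_zero])
  have hle : v ((z : FractionRing (MvPolynomial σ k)) / y) ≤ 1 := by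
    rw [map_div₀, hyn, ← WithZero.exp_log (hne z hz0), ← WithZero.exp_sub, ← WithZero.exp_zero, WithZero.exp_le_exp]
    have := hmax _ ⟨z, hz, (WithZero.exp_log (hne z hz0)).symm⟩
    omega
  exact Submodule.mem_span_singleton.2 ⟨⟨_, hle⟩, Subtype.ext (div_mul_cancel₀ _ hy0)⟩

end DegValuation

section Semilocal

variable (O K L : Type u) [CommRing O] [IsDomain O] [IsPrincipalIdealRing O] [ValuationRing O]
  [Field K] [Algebra O K] [IsFractionRing O K] [Field L] [Algebra K L] [Algebra O L]
  [IsScalarTower O K L]

/-- Finitely many discrete valuations detect integrality over `O` in a finite extension. -/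
theorem exists_hom_of_finite [FiniteDimensional K L] :
    ∃ (J : Type u) (_ : Finite J) (ψ : Lˣ →* Multiplicative (J → ℤ)),
      ∀ a, ψ a = 1 → IsIntegral O (a : L) := by
  classical
  -- integral generators
  let b := Module.finBasis K L
  have hgen : ∀ i, ∃ m : O⁰, IsIntegral O (m • b i) := fun i =>
    IsIntegral.exists_multiple_integral_of_isLocalization O⁰ (Rₘ := K) (b i)
      (Algebra.IsIntegral.isIntegral _)
  choose m hm using hgen
  let R1 : Subalgebra O L := Algebra.adjoin O (Set.range fun i => m i • b i)
  haveI : Module.Finite O R1 :=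
    Module.Finite.iff_fg.2 (fg_adjoin_of_finite (Set.finite_range _) (by rintro _ ⟨i, rfl⟩; exact hm i))
  haveI : Algebra.IsIntegral O R1 := Algebra.IsIntegral.of_finite O R1
  haveI : IsNoetherianRing R1 := IsNoetherianRing.of_finite O R1
  have hOL : Function.Injective (algebraMap O L) := by
    rw [IsScalarTower.algebraMap_eq O K L, RingHom.coe_comp]
    exact (algebraMap K L).injective.comp (IsFractionRing.injective O K)
  have hOR : Function.Injective (algebraMap O R1) := fun x y h =>
    hOL (congrArg (Subtype.val : R1 → L) h)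
  haveI : Ring.KrullDimLE 1 R1 := by
    refine Ring.krullDimLE_one_iff_of_isPrime_bot.2 fun P hP hP' => ?_
    haveI : Nontrivial O := inferInstance
    have hcomap : P.comap (algebraMap O R1) ≠ ⊥ := fun h => hP (Ideal.eq_bot_of_comap_eq_bot h)
    exact Ideal.isMaximal_of_isIntegral_of_isMaximal_comap P (IsPrime.to_maximal_ideal hcomap)
  haveI : IsFractionRing R1 L := by
    have htop : ∀ x : L, x ∈ Subfield.closure (R1 : Set L) := by
      intro x
      have hO : ∀ o : O, algebraMap O L o ∈ Subfield.closure (R1 : Set L) := fun o =>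
        Subfield.subset_closure (R1.algebraMap_mem o)
      have hK : ∀ c : K, algebraMap K L c ∈ Subfield.closure (R1 : Set L) := fun c => by
        obtain ⟨p, q, -, rfl⟩ := IsFractionRing.div_surjective O c
        rw [map_div₀, ← IsScalarTower.algebraMap_apply, ← IsScalarTower.algebraMap_apply]
        exact div_mem (hO p) (hO q)
      have hb : ∀ i, b i ∈ Subfield.closure (R1 : Set L) := fun i => by
        have h1 : m i • b i ∈ Subfield.closure (R1 : Set L) :=
          Subfield.subset_closure (Algebra.subset_adjoin ⟨i, rfl⟩)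
        have h0 : algebraMap O L (m i : O) ≠ 0 := (map_ne_zero_iff _ hOL).2 (nonZeroDivisors.coe_ne_zero _)
        have h2 : b i = (algebraMap O L (m i : O))⁻¹ * (m i • b i) := by
          rw [Submonoid.smul_def, Algebra.smul_def, inv_mul_cancel_left₀ h0]
        rw [h2]
        exact mul_mem (inv_mem (hO _)) h1
      rw [← b.sum_repr x]
      refine sum_mem fun i _ => ?_
      rw [Algebra.smul_def]
      exact mul_mem (hK _) (hb i)
    refine IsFractionRing.of_field R1 L fun x => ?_
    obtain ⟨y, hy, z, hz, rfl⟩ := Subfield.mem_closure_iff.1 (htop x)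
    have hR : Subring.closure (R1 : Set L) = R1.toSubring := Subring.closure_eq R1.toSubring
    rw [hR] at hy hz
    exact ⟨⟨y, hy⟩, ⟨z, hz⟩, rfl⟩
  haveI : IsDedekindDomain (integralClosure R1 L) := DomDVR.isDedekindDomain_integralClosure
  haveI : IsFractionRing (integralClosure R1 L) L :=
    integralClosure.isFractionRing_of_finite_extension L L
  let C := integralClosure R1 L
  have hint : ∀ x : C, IsIntegral O (x : L) := fun x => isIntegral_trans (R := O) _ x.2
  have hOC : Function.Injective (algebraMap O C) := fun x y h =>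
    hOL (congrArg (Subtype.val : C → L) h)
  haveI : Algebra.IsIntegral O C := ⟨fun x => (isIntegral_algebraMap_iff (B := L) Subtype.val_injective).1 (hint x)⟩
  haveI : Finite (HeightOneSpectrum C) := by
    have hmem : ∀ v : HeightOneSpectrum C, (IsLocalRing.maximalIdeal O).map (algebraMap O C) ≤ v.asIdeal := by
      intro v
      refine Ideal.map_le_iff_le_comap.2 (le_of_eq ?_)
      have : v.asIdeal.comap (algebraMap O C) ≠ ⊥ := fun h => v.ne_bot (Ideal.eq_bot_of_comap_eq_bot h)
      exact (IsLocalRing.eq_maximalIdeal (IsPrime.to_maximal_ideal this)).symm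
    by_cases hO : IsLocalRing.maximalIdeal O = ⊥
    · haveI : IsEmpty (HeightOneSpectrum C) := ⟨fun v => by
        have : v.asIdeal.comap (algebraMap O C) ≠ ⊥ := fun h => v.ne_bot (Ideal.eq_bot_of_comap_eq_bot h)
        exact this (le_bot_iff.1 (hO ▸ IsLocalRing.le_maximalIdeal (Ideal.IsPrime.ne_top inferInstance)))⟩
      infer_instance
    have hne : (IsLocalRing.maximalIdeal O).map (algebraMap O C) ≠ 0 :=
      fun h => hO ((Ideal.map_eq_bot_iff_of_injective hOC).1 h)
    exact Set.finite_univ_iff.1 ((Ideal.finite_factors hne).subset fun v _ => Ideal.dvd_iff_le.2 (hmem v))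
  let ψ : Lˣ →* Multiplicative (HeightOneSpectrum C → ℤ) :=
    { toFun := fun a => Multiplicative.ofAdd fun v => WithZero.log (v.valuation L (a : L))
      map_one' := by simp only [Units.val_one, map_one, WithZero.log_one]; rfl
      map_mul' := fun a c => by
        rw [← ofAdd_add]
        congr 1
        funext v
        rw [Pi.add_apply, Units.val_mul, map_mul,
          WithZero.log_mul ((Valuation.ne_zero_iff _).2 a.ne_zero) ((Valuation.ne_zero_iff _).2 c.ne_zero)] }
  refine ⟨HeightOneSpectrum C, inferInstance, ψ, fun a ha => ?_⟩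
  obtain ⟨x, hx⟩ := HeightOneSpectrum.mem_integers_of_valuation_le_one (R := C) L (a : L) fun v => by
    have h : WithZero.log (v.valuation L (a : L)) = 0 := congrFun (congrArg Multiplicative.toAdd ha) v
    rw [← WithZero.exp_log ((Valuation.ne_zero_iff (v.valuation L)).2 a.ne_zero), h, WithZero.exp_zero]
  exact hx ▸ hint x

end Semilocal

/-- For a finite type domain over a field, units modulo algebraic constants embed in a lattice. -/
theorem exists_hom (k : Type u) [Field k] (A : Type u) [CommRing A] [IsDomain A] [Algebra k A]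
    [Algebra.FiniteType k A] :
    ∃ (J : Type u) (_ : Finite J) (ψ : Aˣ →* Multiplicative (J → ℤ)),
      ∀ a, ψ a = 1 → IsIntegral k (a : A) := by
  obtain ⟨s, g, hg, hfin⟩ := exists_finite_inj_algHom_of_fg k A
  let P := MvPolynomial (Fin s) k
  letI : Algebra P A := g.toRingHom.toAlgebra
  haveI : IsScalarTower k P A := IsScalarTower.of_algebraMap_eq fun x => (g.commutes x).symm
  haveI : Module.Finite P A := hfin
  let K := FractionRing P
  let L := FractionRing A
  haveI : FaithfulSMul P L := (faithfulSMul_iff_algebraMap_injective P L).2 (by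
    rw [IsScalarTower.algebraMap_eq P A L, RingHom.coe_comp]
    exact (IsFractionRing.injective A L).comp hg)
  letI : Algebra K L := FractionRing.liftAlgebra P L
  haveI : IsScalarTower P K L := FractionRing.isScalarTower_liftAlgebra P L
  haveI : IsLocalization (Algebra.algebraMapSubmonoid A P⁰) L := by
    haveI : Algebra.IsIntegral P A := Algebra.IsIntegral.of_finite P A
    haveI : IsDomain P := inferInstance
    haveI : FaithfulSMul P A := (faithfulSMul_iff_algebraMap_injective P A).2 hg
    exact inferInstanceAs (IsLocalization (Algebra.algebraMapSubmonoid A P⁰) (FractionRing A))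
  haveI : FiniteDimensional K L := Module.Finite.of_isLocalization P A P⁰
  letI : Algebra (degRing k (Fin s)) L := ((algebraMap K L).comp (degRing k (Fin s)).subtype).toAlgebra
  haveI : IsScalarTower (degRing k (Fin s)) K L := IsScalarTower.of_algebraMap_eq fun _ => rfl
  obtain ⟨J, hJ, ψ, hψ⟩ := exists_hom_of_finite (degRing k (Fin s)) K L
  refine ⟨J, hJ, ψ.comp (Units.map (algebraMap A L)), fun a ha => ?_⟩
  have hO : IsIntegral (degRing k (Fin s)) (algebraMap A L a) := hψ _ ha
  have hP : IsIntegral P (algebraMap A L a) := (Algebra.IsIntegral.isIntegral (a : A)).map (IsScalarTower.toAlgHom P A L)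
  have e1 := minpoly.isIntegrallyClosed_eq_field_fractions' K hP
  have e2 := minpoly.isIntegrallyClosed_eq_field_fractions' K hO
  have hlift : minpoly P (algebraMap A L a) ∈ Polynomial.lifts (MvPolynomial.C : k →+* P) := by
    rw [Polynomial.lifts_iff_coeff_lifts]
    intro n
    obtain ⟨c, hc⟩ := exists_C_of_degValK_le_one (f := (minpoly P (algebraMap A L a)).coeff n) <| by
      have h := congrArg (fun p => Polynomial.coeff p n) (e1.symm.trans e2)
      simp only [Polynomial.coeff_map] at h
      rw [h]
      exact ((minpoly (degRing k (Fin s)) (algebraMap A L a)).coeff n).2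
    exact ⟨c, hc⟩
  obtain ⟨q, hq, -, hqm⟩ := Polynomial.lifts_and_degree_eq_and_monic hlift (minpoly.monic hP)
  refine ⟨q, hqm, IsFractionRing.injective A L ?_⟩
  rw [map_zero, ← Polynomial.aeval_def, ← Polynomial.aeval_algebraMap_apply,
    ← Polynomial.aeval_map_algebraMap P]
  rw [show (algebraMap k P) = MvPolynomial.C from rfl, hq, minpoly.aeval]

end Groth.Agent.UnitsFG
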