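import Mathlib
import Groth.Agent.RosenlichtLib.Alg

/-!
# Units of a product of integral varieties over an algebraically closed field
-/

set_option autoImplicit false

universe u

open CategoryTheory CategoryTheory.Limits MonoidalCategory CartesianMonoidalCategory AlgebraicGeometry
open TopologicalSpace TensorProduct Opposite

namespace Groth.Agent.UnitsFG

variable {k : Type u} [Field k] {X Y : Over (Spec (CommRingCat.of k))}

/-- `Spec A` as a scheme over `k`. -/
noncomputable abbrev specO (k : Type u) [Field k] (A : Type u) [CommRing A] [Algebra k A] :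
    Over (Spec (CommRingCat.of k)) :=
  Over.mk (Spec.map (CommRingCat.ofHom (algebraMap k A)))

/-- Functoriality of `specO`. -/
noncomputable def smap {A B : Type u} [CommRing A] [CommRing B] [Algebra k A] [Algebra k B]
    (φ : A →ₐ[k] B) : specO k B ⟶ specO k A :=
  Over.homMk (Spec.map (CommRingCat.ofHom φ.toRingHom)) (by
    show Spec.map _ ≫ Spec.map _ = Spec.map _
    rw [← Spec.map_comp]
    congr 1
    ext c
    exact φ.commutes c)

lemma smap_comp {A B C : Type u} [CommRing A] [CommRing B] [CommRing C] [Algebra k A] [Algebra k B]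
    [Algebra k C] (φ : A →ₐ[k] B) (ψ : B →ₐ[k] C) : smap ψ ≫ smap φ = smap (ψ.comp φ) := by
  apply Over.OverMorphism.ext
  show Spec.map _ ≫ Spec.map _ = Spec.map _
  rw [← Spec.map_comp]
  rfl

lemma smap_id {A : Type u} [CommRing A] [Algebra k A] : smap (AlgHom.id k A) = 𝟙 (specO k A) := by
  apply Over.OverMorphism.ext
  exact Spec.map_id _

/-- The unique map to the point. -/
noncomputable def toPt (W : Over (Spec (CommRingCat.of k))) : W ⟶ specO k k :=
  Over.homMk W.hom (by
    show W.hom ≫ Spec.map _ = W.hom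
    rw [show CommRingCat.ofHom (algebraMap k k) = 𝟙 (CommRingCat.of k) from rfl, Spec.map_id, Category.comp_id])

lemma toPt_unique {W : Over (Spec (CommRingCat.of k))} (a b : W ⟶ specO k k) : a = b := by
  apply Over.OverMorphism.ext
  have e : (specO k k).hom = 𝟙 _ := by
    show Spec.map _ = _
    rw [show CommRingCat.ofHom (algebraMap k k) = 𝟙 (CommRingCat.of k) from rfl, Spec.map_id]
    rfl
  have ha := Over.w a
  have hb := Over.w b
  rw [e] at ha hb
  exact (Category.comp_id _).symm.trans (ha.trans (hb.symm.trans (Category.comp_id _)))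

/-- The value of a global function at a point. -/
noncomputable def val {Z : Over (Spec (CommRingCat.of k))} (F : Γ(Z.left, ⊤)) {A : Type u} [CommRing A]
    [Algebra k A] (t : specO k A ⟶ Z) : A :=
  (Scheme.ΓSpecIso (CommRingCat.of A)).hom (t.left.appTop F)

lemma val_smap {Z : Over (Spec (CommRingCat.of k))} (F : Γ(Z.left, ⊤)) {A B : Type u} [CommRing A]
    [CommRing B] [Algebra k A] [Algebra k B] (φ : A →ₐ[k] B) (t : specO k A ⟶ Z) :
    val F (smap φ ≫ t) = φ (val F t) := by
  show (Scheme.ΓSpecIso (CommRingCat.of B)).hom ((Spec.map (CommRingCat.ofHom φ.toRingHom) ≫ t.left).appTop F) = _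
  rw [Scheme.Hom.comp_appTop, CommRingCat.comp_apply]
  exact congrArg (fun g => g (t.left.appTop F)) (Scheme.ΓSpecIso_naturality (CommRingCat.ofHom φ.toRingHom))

lemma val_comp {Z Z' : Over (Spec (CommRingCat.of k))} (F : Γ(Z.left, ⊤)) {A : Type u} [CommRing A]
    [Algebra k A] (t : specO k A ⟶ Z') (g : Z' ⟶ Z) : val F (t ≫ g) = val (g.left.appTop F) t := by
  show (Scheme.ΓSpecIso (CommRingCat.of A)).hom ((t.left ≫ g.left).appTop F) = _
  rw [Scheme.Hom.comp_appTop]
  rfl

/-- An affine chart with a finite type domain of coordinates. -/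
structure Chart (X : Over (Spec (CommRingCat.of k))) where
  A : Type u
  [instRing : CommRing A]
  [instDomain : IsDomain A]
  [instAlg : Algebra k A]
  [instFT : Algebra.FiniteType k A]
  q : specO k A ⟶ X
  [instOpen : IsOpenImmersion q.left]

attribute [instance] Chart.instRing Chart.instDomain Chart.instAlg Chart.instFT Chart.instOpen

lemma exists_chart [IsIntegral X.left] [LocallyOfFiniteType X.hom] (V : X.left.Opens) {x : X.left} (hx : x ∈ V) :
    ∃ c : Chart X, x ∈ c.q.left.opensRange ∧ c.q.left.opensRange ≤ V := by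
  obtain ⟨W, hW, hxW, hWV⟩ := exists_isAffineOpen_mem_and_subset (U := V) hx
  haveI : Nonempty W := ⟨⟨x, hxW⟩⟩
  let φ : CommRingCat.of k ⟶ Γ(X.left, W) := Spec.preimage (hW.fromSpec ≫ X.hom)
  have hφ : Spec.map φ = hW.fromSpec ≫ X.hom := Spec.map_preimage _
  letI : Algebra k Γ(X.left, W) := φ.hom.toAlgebra
  haveI : Algebra.FiniteType k Γ(X.left, W) := by
    have h : LocallyOfFiniteType (Spec.map φ) := by rw [hφ]; infer_instance
    rw [HasRingHomProperty.Spec_iff (P := @LocallyOfFiniteType)] at h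
    exact h
  let q : specO k Γ(X.left, W) ⟶ X := Over.homMk hW.fromSpec hφ.symm
  haveI : IsOpenImmersion q.left := inferInstanceAs (IsOpenImmersion hW.fromSpec)
  refine ⟨⟨Γ(X.left, W), q⟩, ?_, ?_⟩
  · show x ∈ hW.fromSpec.opensRange
    rw [hW.opensRange_fromSpec]
    exact hxW
  · show hW.fromSpec.opensRange ≤ V
    rw [hW.opensRange_fromSpec]
    exact hWV

lemma exists_algHom [IsAlgClosed k] (A : Type u) [CommRing A] [Nontrivial A] [Algebra k A]
    [Algebra.FiniteType k A] : Nonempty (A →ₐ[k] k) := by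
  obtain ⟨M, hM⟩ := Ideal.exists_maximal A
  letI : Field (A ⧸ M) := Ideal.Quotient.field M
  haveI : Module.Finite k (A ⧸ M) := finite_of_finite_type_of_isJacobsonRing k (A ⧸ M)
  let e : k ≃ₐ[k] A ⧸ M := AlgEquiv.ofBijective (Algebra.ofId k _)
    (IsAlgClosed.algebraMap_bijective_of_isIntegral (k := k) (K := A ⧸ M))
  exact ⟨e.symm.toAlgHom.comp (Ideal.Quotient.mkₐ k M)⟩

/-- The rational point given by a point of a chart. -/
noncomputable def Chart.pt (c : Chart X) (a : c.A →ₐ[k] k) : specO k k ⟶ X := smap a ≫ c.q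

lemma exists_common_pt [IsAlgClosed k] [IsIntegral X.left] [LocallyOfFiniteType X.hom] (c d : Chart X) :
    ∃ (a : c.A →ₐ[k] k) (b : d.A →ₐ[k] k), c.pt a = d.pt b := by
  have hne : ∀ e : Chart X, ((e.q.left.opensRange : X.left.Opens) : Set X.left).Nonempty := fun e =>
    ⟨_, Set.mem_range_self (Classical.arbitrary (PrimeSpectrum e.A))⟩
  obtain ⟨x, hxc, hxd⟩ := nonempty_preirreducible_inter c.q.left.opensRange.2 d.q.left.opensRange.2 (hne c) (hne d)
  obtain ⟨e, -, he⟩ := exists_chart (c.q.left.opensRange ⊓ d.q.left.opensRange) (x := x) ⟨hxc, hxd⟩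
  obtain ⟨a⟩ := exists_algHom (k := k) e.A
  have lift : ∀ f : Chart X, e.q.left.opensRange ≤ f.q.left.opensRange →
      ∃ a' : f.A →ₐ[k] k, f.pt a' = e.pt a := by
    intro f hf
    let l := IsOpenImmersion.lift f.q.left (e.pt a).left (by
      refine subset_trans ?_ hf
      rintro _ ⟨y, rfl⟩
      exact ⟨(smap a).left y, rfl⟩)
    have hl : l ≫ f.q.left = (e.pt a).left := IsOpenImmersion.lift_fac _ _ _
    let ψ : CommRingCat.of f.A ⟶ CommRingCat.of k := Spec.preimage l
    have hψ : Spec.map ψ = l := Spec.map_preimage _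
    have hw : Spec.map ψ ≫ Spec.map (CommRingCat.ofHom (algebraMap k f.A)) =
        Spec.map (CommRingCat.ofHom (algebraMap k k)) := by
      rw [hψ]
      calc l ≫ Spec.map (CommRingCat.ofHom (algebraMap k f.A)) = l ≫ f.q.left ≫ X.hom :=
            congrArg (l ≫ ·) (Over.w f.q).symm
        _ = (e.pt a).left ≫ X.hom := by rw [← Category.assoc, hl]
        _ = _ := Over.w _
    have hcomm : ∀ c : k, ψ.hom (algebraMap k f.A c) = c := fun c => by
      rw [← Spec.map_comp] at hw
      exact congrArg (fun g => g.hom c) (Spec.map_injective hw)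
    refine ⟨{ ψ.hom with commutes' := hcomm }, Over.OverMorphism.ext ?_⟩
    show Spec.map _ ≫ f.q.left = _
    rw [← hl]
    exact congrArg (· ≫ f.q.left) hψ
  obtain ⟨a', ha'⟩ := lift c (he.trans inf_le_left)
  obtain ⟨b', hb'⟩ := lift d (he.trans inf_le_right)
  exact ⟨a', b', ha'.trans hb'.symm⟩

lemma appTop_injective [IsIntegral X.left] (c : Chart X) : Function.Injective c.q.left.appTop := by
  haveI : Nonempty (c.q.left.opensRange) :=
    ⟨⟨_, Set.mem_range_self (Classical.arbitrary (PrimeSpectrum c.A))⟩⟩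
  have h : c.q.left.appTop = X.left.presheaf.map (homOfLE le_top).op ≫
      c.q.left.appLE c.q.left.opensRange ⊤ (by simp) := by
    rw [Scheme.Hom.map_appLE, Scheme.Hom.appTop, Scheme.Hom.app_eq_appLE]
    rfl
  show Function.Injective c.q.left.appTop.hom
  rw [h, CommRingCat.hom_comp, RingHom.coe_comp]
  haveI : IsIso (c.q.left.appLE c.q.left.opensRange ⊤ (by simp)) := by
    rw [Scheme.Hom.appLE]
    haveI := Scheme.Hom.isIso_app c.q.left c.q.left.opensRange le_rfl
    rw [show homOfLE (show (⊤ : (specO k c.A).left.Opens) ≤ c.q.left ⁻¹ᵁ c.q.left.opensRange by simp) =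
      eqToHom c.q.left.preimage_opensRange.symm from Subsingleton.elim _ _]
    infer_instance
  exact ((asIso (c.q.left.appLE c.q.left.opensRange ⊤ _)).commRingCatIsoToRingEquiv.injective).comp
    (map_injective_of_isIntegral X.left _)

variable [IsAlgClosed k]

lemma lift_inr {A B C : Type u} [CommRing A] [CommRing B] [CommRing C] [Algebra k A] [Algebra k B] [Algebra k C]
    (f : A →ₐ[k] C) (g : B →ₐ[k] C) (h : ∀ x y, Commute (f x) (g y)) :
    (Algebra.TensorProduct.lift f g h).comp Algebra.TensorProduct.includeRight = g := AlgHom.ext fun x => by simp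

/-- The product chart. -/
noncomputable def prodPt (c : Chart X) (d : Chart Y) : specO k (c.A ⊗[k] d.A) ⟶ X ⊗ Y :=
  lift (smap Algebra.TensorProduct.includeLeft ≫ c.q) (smap Algebra.TensorProduct.includeRight ≫ d.q)

lemma smap_prodPt (c : Chart X) (d : Chart Y) (b : d.A →ₐ[k] k) :
    smap (Algebra.TensorProduct.lift (AlgHom.id k c.A) ((Algebra.ofId k c.A).comp b) (fun _ _ => Commute.all _ _)) ≫
      prodPt c d = c.q ≫ lift (𝟙 X) (toPt X ≫ d.pt b) := by
  rw [prodPt, comp_lift, comp_lift, Category.comp_id]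
  congr 1
  · rw [← Category.assoc, smap_comp, Algebra.TensorProduct.lift_comp_includeLeft, smap_id, Category.id_comp]
  · rw [← Category.assoc, smap_comp, lift_inr, ← smap_comp, Category.assoc,
      ← Category.assoc c.q, toPt_unique (c.q ≫ toPt X) (smap (Algebra.ofId k c.A))]
    rfl

lemma smap_prodPt' (c : Chart X) (d : Chart Y) (a : c.A →ₐ[k] k) :
    smap (Algebra.TensorProduct.lift ((Algebra.ofId k d.A).comp a) (AlgHom.id k d.A) (fun _ _ => Commute.all _ _)) ≫
      prodPt c d = d.q ≫ lift (toPt Y ≫ c.pt a) (𝟙 Y) := by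
  rw [prodPt, comp_lift, comp_lift, Category.comp_id]
  congr 1
  · rw [← Category.assoc, smap_comp, Algebra.TensorProduct.lift_comp_includeLeft, ← smap_comp, Category.assoc,
      ← Category.assoc d.q, toPt_unique (d.q ≫ toPt Y) (smap (Algebra.ofId k d.A))]
    rfl
  · rw [← Category.assoc, smap_comp, lift_inr, smap_id, Category.id_comp]

/-- `F` is trivial along `X × {y}`. -/
def GoodY (F : Γ((X ⊗ Y).left, ⊤)) (y : specO k k ⟶ Y) : Prop :=
  (lift (𝟙 X) (toPt X ≫ y)).left.appTop F = 1

/-- `F` is trivial along `{x} × Y`. -/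
def GoodX (F : Γ((X ⊗ Y).left, ⊤)) (x : specO k k ⟶ X) : Prop :=
  (lift (toPt Y ≫ x) (𝟙 Y)).left.appTop F = 1

lemma step (F : Γ((X ⊗ Y).left, ⊤)) (hF : IsUnit F) (c : Chart X) (d : Chart Y) (a : c.A →ₐ[k] k)
    (b : d.A →ₐ[k] k) (ha : GoodX F (c.pt a)) (hb : GoodY F (d.pt b)) : val F (prodPt c d) = 1 := by
  have hu : IsUnit (val F (prodPt c d)) := (hF.map _).map _
  have h := RosenlichtLib.unit_eq_one hu.unit a b ?_ ?_
  · rw [← hu.unit_spec, h, Units.val_one]
  · rw [hu.unit_spec, ← val_smap, smap_prodPt, val_comp]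
    rw [GoodY] at hb
    rw [hb, val, map_one, map_one]
  · rw [hu.unit_spec, ← val_smap, smap_prodPt', val_comp]
    rw [GoodX] at ha
    rw [ha, val, map_one, map_one]

lemma eq_one_of_val_chart {X' : Over (Spec (CommRingCat.of k))} [IsIntegral X'.left] (c : Chart X')
    {G : Γ(X'.left, ⊤)} (h : val G c.q = 1) : G = 1 := by
  apply appTop_injective c
  rw [map_one]
  exact (Scheme.ΓSpecIso (CommRingCat.of c.A)).commRingCatIsoToRingEquiv.injective (h.trans (map_one _).symm)

/-- A unit on `X × Y` trivial along `X × {y₀}` and `{x₀} × Y` is trivial. -/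
theorem eq_one_of_trivial [IsIntegral X.left] [IsIntegral Y.left] [LocallyOfFiniteType X.hom]
    [LocallyOfFiniteType Y.hom] (F : Γ((X ⊗ Y).left, ⊤)) (hF : IsUnit F) (c₀ : Chart X) (d₀ : Chart Y)
    (a₀ : c₀.A →ₐ[k] k) (b₀ : d₀.A →ₐ[k] k) (hx : GoodX F (c₀.pt a₀)) (hy : GoodY F (d₀.pt b₀)) :
    F = 1 := by
  have h00 := step F hF c₀ d₀ a₀ b₀ hx hy
  have hgX : ∀ (c : Chart X) (d : Chart Y), val F (prodPt c d) = 1 → ∀ a : c.A →ₐ[k] k, GoodX F (c.pt a) := by
    intro c d h a
    refine eq_one_of_val_chart d ?_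
    rw [← val_comp, ← smap_prodPt', val_smap, h, map_one]
  have hgY : ∀ (c : Chart X) (d : Chart Y), val F (prodPt c d) = 1 → ∀ b : d.A →ₐ[k] k, GoodY F (d.pt b) := by
    intro c d h b
    refine eq_one_of_val_chart c ?_
    rw [← val_comp, ← smap_prodPt, val_smap, h, map_one]
  have hall : ∀ (c : Chart X) (d : Chart Y), val F (prodPt c d) = 1 := by
    intro c d
    obtain ⟨a, a', ha⟩ := exists_common_pt c c₀
    obtain ⟨b, b', hb⟩ := exists_common_pt d d₀
    exact step F hF c d a b (ha ▸ hgX c₀ d₀ h00 a') (hb ▸ hgY c₀ d₀ h00 b')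
  haveI : Nonempty (PrimeSpectrum c₀.A) := inferInstance
  choose cX hcX _ using fun x : X.left => exists_chart (X := X) ⊤ (x := x) trivial
  choose cY hcY _ using fun y : Y.left => exists_chart (X := Y) ⊤ (x := y) trivial
  refine TopCat.Presheaf.section_ext (X ⊗ Y).left.sheaf _ F 1 fun z _ => ?_
  let c := cX ((fst X Y).left z)
  let d := cY ((snd X Y).left z)
  let eX := c.q.left
  let eY := d.q.left
  let m : pullback (eX ≫ X.hom) (eY ≫ Y.hom) ⟶ (X ⊗ Y).left :=
    pullback.map _ _ X.hom Y.hom eX eY (𝟙 _) (Category.comp_id _) (Category.comp_id _)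
  haveI : IsOpenImmersion m := inferInstanceAs (IsOpenImmersion (pullback.map _ _ X.hom Y.hom eX eY (𝟙 _) _ _))
  have hz : z ∈ Set.range m := by
    rw [Scheme.Pullback.range_map]
    exact ⟨hcX _, hcY _⟩
  obtain ⟨w, hw⟩ := hz
  have hm : m.appTop (F - 1) = 0 := by
    let i : Spec (CommRingCat.of (c.A ⊗[k] d.A)) ⟶ pullback (eX ≫ X.hom) (eY ≫ Y.hom) :=
      (pullbackSpecIso k c.A d.A).inv ≫ (pullback.congrHom (Over.w c.q) (Over.w d.q)).inv
    have hi : i ≫ m = (prodPt c d).left := by
      apply pullback.hom_ext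
      · have e1 : m ≫ pullback.fst X.hom Y.hom = pullback.fst _ _ ≫ eX := pullback.lift_fst _ _ _
        have e2 : (pullback.congrHom (Over.w c.q) (Over.w d.q)).inv ≫ pullback.fst _ _ = pullback.fst _ _ := by
          rw [pullback.congrHom_inv]
          exact (pullback.lift_fst _ _ _).trans (Category.comp_id _)
        rw [Category.assoc, e1]
        simp only [i, Category.assoc]
        rw [reassoc_of% e2, ← Category.assoc]
        refine (congrArg (· ≫ eX) (pullbackSpecIso_inv_fst k c.A d.A)).trans ?_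
        exact (congrArg CommaMorphism.left (lift_fst (smap (Algebra.TensorProduct.includeLeft (R := k) (S := k) (A := c.A) (B := d.A)) ≫ c.q)
          (smap (Algebra.TensorProduct.includeRight (R := k) (A := c.A) (B := d.A)) ≫ d.q))).symm
      · have e1 : m ≫ pullback.snd X.hom Y.hom = pullback.snd _ _ ≫ eY := pullback.lift_snd _ _ _
        have e2 : (pullback.congrHom (Over.w c.q) (Over.w d.q)).inv ≫ pullback.snd _ _ = pullback.snd _ _ := by
          rw [pullback.congrHom_inv]
          exact (pullback.lift_snd _ _ _).trans (Category.comp_id _)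
        rw [Category.assoc, e1]
        simp only [i, Category.assoc]
        rw [reassoc_of% e2, ← Category.assoc]
        refine (congrArg (· ≫ eY) (pullbackSpecIso_inv_snd k c.A d.A)).trans ?_
        exact (congrArg CommaMorphism.left (lift_snd (smap (Algebra.TensorProduct.includeLeft (R := k) (S := k) (A := c.A) (B := d.A)) ≫ c.q)
          (smap (Algebra.TensorProduct.includeRight (R := k) (A := c.A) (B := d.A)) ≫ d.q))).symm
    haveI : IsIso i := inferInstanceAs (IsIso (_ ≫ _))
    haveI : IsIso i.appTop := inferInstanceAs (IsIso (Scheme.Γ.map i.op))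
    apply (asIso i.appTop).commRingCatIsoToRingEquiv.injective
    rw [map_zero]
    show i.appTop (m.appTop (F - 1)) = 0
    rw [← CommRingCat.comp_apply, ← Scheme.Hom.comp_appTop, hi, map_sub, map_one, sub_eq_zero]
    exact (Scheme.ΓSpecIso _).commRingCatIsoToRingEquiv.injective ((hall c d).trans (map_one _).symm)
  rw [← sub_eq_zero, ← map_sub]
  suffices h0 : ∀ (z' : (X ⊗ Y).left), m w = z' → (X ⊗ Y).left.presheaf.germ ⊤ z' trivial (F - 1) = 0 from h0 z hw
  rintro _ rfl
  have h1 := Scheme.Hom.germ_stalkMap_apply m ⊤ w trivial (F - 1)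
  rw [show m.app ⊤ (F - 1) = 0 from hm, map_zero] at h1
  exact (asIso (m.stalkMap w)).commRingCatIsoToRingEquiv.injective (h1.trans (map_zero _).symm)

end Groth.Agent.UnitsFG
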